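import Groth.Agent.Lefpen.H20.GalEng
import Groth.Agent.Lefpen.H916.EdgeJ
import Groth.Agent.Etcore.FieldLim
import Groth.Agent.CurvesA.EtFieldH

/-!
# (B1) of S4031: `Γ(Spec K, R^q f_* F) = H^q(X_Ω, F)^Gal`

`Ω` a separable closure of the field `K`, `f : X ⟶ Spec K` quasi-compact quasi-separated, `F` any abelian
étale sheaf on `X`.
-/

set_option autoImplicit false
universe u
open CategoryTheory CategoryTheory.Limits AlgebraicGeometry Opposite Abelian
open scoped Groth.Agent.Etcore.EtInst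
open Groth.Agent.Etcore.EtInst Groth.Agent.Etcore.HpullCalc Groth.Agent.Etcore.PullCoh
  Groth.Agent.Etcore.HpVia Groth.Agent.Etcore.FGLim Groth.Agent.Etcore.PullbackLim
open Groth.Agent.Etcore.FieldLim (str str_map str_cone)
open Groth.Agent.CurvesA.EtFieldObj Groth.Agent.CurvesA.EtFieldH
open Groth.Agent.Lefpen.H20.GalEng Groth.Agent.Lefpen.H712.HT Groth.Agent.Lefpen.H916.KT
  Groth.Agent.Lefpen.H916.EdgeC

namespace Groth.Agent.Lefpen.H20.B1

attribute [local instance] S0101.result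

section Level

variable {K Ω : Type u} [Field K] [Field Ω] [Algebra K Ω]

/-- A finitely generated subalgebra of an algebraic extension, as an intermediate field. -/
noncomputable def toIF [Algebra.IsAlgebraic K Ω] (B : FGSub K Ω) : IntermediateField K Ω :=
  B.1.toIntermediateField' (Subalgebra.isField_of_algebraic B.1)

theorem mem_toIF [Algebra.IsAlgebraic K Ω] (B : FGSub K Ω) (x : Ω) : x ∈ toIF B ↔ x ∈ B.1 := Iff.rfl

/-- The tautological map `B → toIF B`. -/
noncomputable def toIFHom [Algebra.IsAlgebraic K Ω] (B : FGSub K Ω) : B.1 →ₐ[K] toIF B where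
  toFun x := ⟨x.1, x.2⟩
  map_one' := rfl
  map_mul' _ _ := rfl
  map_zero' := rfl
  map_add' _ _ := rfl
  commutes' _ := rfl

theorem val_toIFHom [Algebra.IsAlgebraic K Ω] (B : FGSub K Ω) :
    (toIF B).val.comp (toIFHom B) = B.1.val := rfl

theorem finite_toIF [Algebra.IsAlgebraic K Ω] (B : FGSub K Ω) : FiniteDimensional K (toIF B) := by
  have h1 : Algebra.FiniteType K B.1 := B.1.fg_iff_finiteType.1 B.2
  have h0 : Algebra.IsIntegral K Ω := Algebra.IsAlgebraic.isIntegral
  have h2 : Algebra.IsIntegral K B.1 :=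
    Algebra.IsIntegral.of_injective B.1.val Subtype.val_injective
  have h3 : Module.Finite K B.1 := Algebra.IsIntegral.finite
  exact Module.Finite.of_surjective (toIFHom B).toLinearMap fun x => ⟨⟨x.1, x.2⟩, rfl⟩

end Level

variable {K Ω : Type u} [Field K] [Field Ω] [Algebra K Ω] {X : Scheme.{u}}
  (f : X ⟶ Spec (CommRingCat.of K)) (F : EtCoh.Ab X) (q : ℕ)

theorem key_proj (B : FGSub K Ω) (x : M (KT f F q) B.1) :
    hpVia (proj (specSys (fgSys K Ω)) (str K Ω) f (specCone (fgSys K Ω) (fgCocone K Ω))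
      (Spec.map (CommRingCat.ofHom (algebraMap K Ω))) (str_cone K Ω) (op B))
      (pullback.fst f (str K Ω (op B))) (pullback.fst f _) (proj_fst _ _ _ _ _ _ _) F q x =
    mp (KT f F q) B.1.val x := by
  rw [hpVia_eq]
  rfl

theorem key_mapp {B B' : FGSub K Ω} (h : B ≤ B') (x : M (KT f F q) B.1) :
    hpVia (mapp (specSys (fgSys K Ω)) (str K Ω) (str_map K Ω) f (homOfLE h).op)
      (pullback.fst f (str K Ω (op B))) (pullback.fst f (str K Ω (op B')))
      (mapp_fst _ _ _ _ _) F q x =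
    mp (KT f F q) (Subalgebra.inclusion h) x := by
  rw [hpVia_eq]
  rfl

variable [QuasiCompact f] [QuasiSeparated f]

theorem limSurj [Algebra.IsSeparable K Ω] : LimSurj (KT f F q) Ω := by
  intro z
  obtain ⟨B, -, x, hx⟩ := Groth.Agent.Etcore.LimH.exists_of_pullbackLim (specSys (fgSys K Ω)) (str K Ω)
    (str_map K Ω) f (specCone (fgSys K Ω) (fgCocone K Ω)) (isLimitSpecCone _ _ (isColimitFG K Ω))
    (Spec.map (CommRingCat.ofHom (algebraMap K Ω))) (str_cone K Ω)
    (fun _ _ h => isAffineHom_specSys _ h) (fun a => inferInstance) (fun a => inferInstance) F q ⊥ z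
  have hx' := (key_proj f F q B x).symm.trans hx
  refine ⟨toIF B, inferInstance, inferInstance, finite_toIF B, inferInstance, (toIF B).val,
    mp (KT f F q) (toIFHom B) x, ?_⟩
  rw [← mp_comp, val_toIFHom]
  exact hx'

theorem limInj [Algebra.IsSeparable K Ω] : LimInj (KT f F q) Ω := by
  intro L _ _ _ _ φ x hx
  have hfg : φ.range.FG := by
    have h1 : Module.Finite K φ.range := Module.Finite.range φ.toLinearMap
    exact φ.range.fg_iff_finiteType.2 inferInstance
  let B : FGSub K Ω := ⟨φ.range, hfg⟩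
  let y : M (KT f F q) B.1 := mp (KT f F q) φ.rangeRestrict x
  have hy : mp (KT f F q) B.1.val y = 0 := by
    rw [← mp_comp]
    exact hx
  obtain ⟨B', hB, h2⟩ := Groth.Agent.Etcore.LimH.exists_zero_of_pullbackLim (specSys (fgSys K Ω)) (str K Ω)
    (str_map K Ω) f (specCone (fgSys K Ω) (fgCocone K Ω)) (isLimitSpecCone _ _ (isColimitFG K Ω))
    (Spec.map (CommRingCat.ofHom (algebraMap K Ω))) (str_cone K Ω)
    (fun _ _ h => isAffineHom_specSys _ h) (fun a => inferInstance) (fun a => inferInstance) F q B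
    y ((key_proj f F q B y).trans hy)
  have h3 := (key_mapp f F q hB y).symm.trans h2
  refine ⟨toIF B', inferInstance, inferInstance, finite_toIF B', inferInstance,
    ((toIFHom B').comp (Subalgebra.inclusion hB)).comp φ.rangeRestrict, (toIF B').val, ?_, ?_⟩
  · ext a; rfl
  · rw [mp_comp, mp_comp]
    exact (congrArg (mp (KT f F q) (toIFHom B')) h3).trans (map_zero _)

/-- `σ` over `Spec K` -/
theorem spec_map_comp {K Ω : Type u} [Field K] [Field Ω] [Algebra K Ω] (σ : Ω ≃ₐ[K] Ω) :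
    Spec.map (CommRingCat.ofHom (σ : Ω →+* Ω)) ≫ Spec.map (CommRingCat.ofHom (algebraMap K Ω)) =
      Spec.map (CommRingCat.ofHom (algebraMap K Ω)) := by
  rw [← Spec.map_comp, ← CommRingCat.ofHom_comp]
  congr 2
  ext x
  simp

theorem mem_inv {K Ω : Type u} [Field K] [Field Ω] [Algebra K Ω] {X : Scheme.{u}}
    (f : X ⟶ Spec (CommRingCat.of K)) (F : EtCoh.Ab X) (q : ℕ)
    (z : HT f F (Spec.map (CommRingCat.ofHom (algebraMap K Ω))) q) :
    z ∈ (⨅ σ : Ω ≃ₐ[K] Ω, (rs f F (Spec.map (CommRingCat.ofHom (σ : Ω →+* Ω))) (spec_map_comp σ) q -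
        AddMonoidHom.id (HT f F (Spec.map (CommRingCat.ofHom (algebraMap K Ω))) q)).ker :
        AddSubgroup (HT f F (Spec.map (CommRingCat.ofHom (algebraMap K Ω))) q)) ↔
      ∀ σ : Ω ≃ₐ[K] Ω,
        rs f F (Spec.map (CommRingCat.ofHom (σ : Ω →+* Ω))) (spec_map_comp σ) q z = z := by
  rw [AddSubgroup.mem_iInf]
  refine forall_congr' fun σ => ?_
  rw [AddMonoidHom.mem_ker, AddMonoidHom.sub_apply, sub_eq_zero]
  rfl

/-- (B1) sections of `R^q f_* F` over `Spec K` are the Galois invariant classes -/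
theorem b1 {K : Type u} [Field K] {Ω : Type u} [Field Ω] [Algebra K Ω] [IsSepClosure K Ω]
    {X : Scheme.{u}} (f : X ⟶ Spec (CommRingCat.of K)) [QuasiCompact f] [QuasiSeparated f]
    (F : EtCoh.Ab X) (q : ℕ) :
    Nonempty (EtCoh.H (Spec (CommRingCat.of K)) ((EtCoh.Rpush f q).obj F) 0 ≃+
      (⨅ σ : Ω ≃ₐ[K] Ω, (rs f F (Spec.map (CommRingCat.ofHom (σ : Ω →+* Ω))) (spec_map_comp σ) q -
        AddMonoidHom.id (HT f F (Spec.map (CommRingCat.ofHom (algebraMap K Ω))) q)).ker :
        AddSubgroup (HT f F (Spec.map (CommRingCat.ofHom (algebraMap K Ω))) q))) := by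
  have : Algebra.IsSeparable K Ω := IsSepClosure.separable
  obtain ⟨a, ha⟩ := Groth.Agent.Lefpen.H916.EdgeJ.exists_edge f F q
  obtain ⟨e⟩ := nonempty_equiv (P := KT f F q) ha (Ω := Ω) (limSurj f F q) (limInj f F q)
    (⨅ σ : Ω ≃ₐ[K] Ω, (rs f F (Spec.map (CommRingCat.ofHom (σ : Ω →+* Ω))) (spec_map_comp σ) q -
        AddMonoidHom.id (HT f F (Spec.map (CommRingCat.ofHom (algebraMap K Ω))) q)).ker :
        AddSubgroup (HT f F (Spec.map (CommRingCat.ofHom (algebraMap K Ω))) q))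
    (fun z => mem_inv f F q z)
  exact ⟨(Sheaf.H.equiv₀ ((EtCoh.Rpush f q).obj F) (isTerminal_etObj K)).trans e⟩

end Groth.Agent.Lefpen.H20.B1
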