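import Groth.Agent.Sga4h.EulerPoint
import Groth.Agent.Sga4h.TameFieldK5
import Mathlib.RingTheory.DiscreteValuationRing.Basic

/-!
# `|H¹(K, A)| = |H⁰(K, A)|` for `K` the fraction field of a strictly henselian DVR

`euler`: for `A` finite locally constant, killed by `N` invertible in `R`.
`b2`: if moreover `H⁰(K, A)` has the order of the stalk, so has `H¹(K, A)`.
-/

set_option autoImplicit false
universe u

open CategoryTheory CategoryTheory.Limits AlgebraicGeometry Opposite

namespace Groth.Agent.Lefpen.H20.B2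

/-- The Euler characteristic of a finite locally constant sheaf on `Spec K` is `1`. -/
theorem euler (R K : Type u) [CommRing R] [IsDomain R] [IsDiscreteValuationRing R]
    (hR : EtCoh.IsStrictlyHenselianLocalRing R) [Field K] [Algebra R K] [IsFractionRing R K]
    (N : ℕ) (hN : IsUnit (N : R)) (A : EtCoh.Ab (Spec (CommRingCat.of K)))
    (hA : EtCoh.IsFiniteLocallyConstant A) (hAN : EtCoh.KilledBy N A) :
    Finite (EtCoh.H (Spec (CommRingCat.of K)) A 0) ∧
      Finite (EtCoh.H (Spec (CommRingCat.of K)) A 1) ∧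
      Nat.card (EtCoh.H (Spec (CommRingCat.of K)) A 1) =
        Nat.card (EtCoh.H (Spec (CommRingCat.of K)) A 0) := by
  have : Subsingleton (Spec (CommRingCat.of K) : Scheme.{u}) :=
    inferInstanceAs (Subsingleton (PrimeSpectrum K))
  refine Groth.Agent.Sga4h.EulerPoint.euler_point
    (Spec.map (CommRingCat.ofHom (algebraMap K (SeparableClosure K)))) N
    (Groth.Agent.Sga4h.TameFieldK5.pos_of_isUnit hN)
    (fun B hB => Groth.Agent.Sga4h.TameField.K1 R K hR N hN B hB 2 le_rfl) ?_
    (fun B hB hF => Groth.Agent.Sga4h.TameFieldK5.K5 R K hR N hN B hB hF) A hAN hA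
  rintro m ⟨c, rfl⟩
  refine Groth.Agent.Sga4h.TameField.K2 R K hR m ?_
  rw [Nat.cast_mul] at hN
  exact isUnit_of_mul_isUnit_left hN

theorem b2 (R K : Type u) [CommRing R] [IsDomain R] [IsDiscreteValuationRing R]
    (hR : EtCoh.IsStrictlyHenselianLocalRing R) [Field K] [Algebra R K] [IsFractionRing R K]
    (Ω : Type u) [Field Ω] [IsSepClosed Ω] (ξ : Spec (CommRingCat.of Ω) ⟶ Spec (CommRingCat.of K))
    (N : ℕ) (hN : IsUnit (N : R)) (A : EtCoh.Ab (Spec (CommRingCat.of K)))
    (hA : EtCoh.IsFiniteLocallyConstant A) (hAN : EtCoh.KilledBy N A)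
    (h : Nat.card (EtCoh.H (Spec (CommRingCat.of K)) A 0) = Nat.card ((EtCoh.stalk ξ).obj A)) :
    Nat.card (EtCoh.H (Spec (CommRingCat.of K)) A 1) = Nat.card ((EtCoh.stalk ξ).obj A) :=
  (euler R K hR N hN A hA hAN).2.2.trans h

end Groth.Agent.Lefpen.H20.B2
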