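import Groth.Agent.S0127
import Groth.Agent.S3122
import Groth.Agent.EtpbcB.GammaRpush
import Groth.Agent.EtpbcB.GeomPointIndep
import Groth.Agent.Sga4h.DivEq
import Groth.Agent.Etrest.ConstBasic
import Groth.Agent.Sga5.EtKilled
import Groth.Agent.Lefpen.H712.HT
import Groth.Prelude.Def_VanCyc

/-!
# Finiteness of the cohomology of schemes of finite type over separably closed fields

`N` invertible in the field, `F` a constructible sheaf killed by `N`, `X` of finite type (not
necessarily proper): `H^q(X, F)` is finite.  Versions for `H^q(X ×_Y Spec k, F)` (`f : X ⟶ Y` of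
finite type) and for the geometric generic fibre.
-/

set_option autoImplicit false
universe u
open CategoryTheory CategoryTheory.Limits AlgebraicGeometry Opposite
open scoped Groth.Agent.Etcore.EtInst

namespace Groth.Agent.Lefpen.H20.FinFT

open Groth.Agent.Etcore.EtInst Groth.Agent.Etcore.HQ Groth.Agent.Lefpen.H712.HT

theorem isUnit_natCast_top {k : Type u} [Field k] (N : ℕ) (hN : (N : k) ≠ 0) :
    IsUnit (N : Γ(Spec (CommRingCat.of k), ⊤)) := by
  have h : IsUnit (N : k) := isUnit_iff_ne_zero.2 hN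
  have := h.map (Scheme.ΓSpecIso (CommRingCat.of k)).inv.hom
  rwa [map_natCast] at this

theorem killedBy_pull {X Y : Scheme.{u}} (f : X ⟶ Y) {n : ℕ} {F : EtCoh.Ab Y}
    (hF : EtCoh.KilledBy n F) : EtCoh.KilledBy n ((EtCoh.pull f).obj F) := by
  rw [Sga5.EtKilled.killedBy_iff] at hF ⊢
  rw [← CategoryTheory.Functor.map_id, ← Functor.map_nsmul, hF, Functor.map_zero]

/-- Finiteness over a separably closed field. -/
theorem finite_field {k : Type u} [Field k] [IsSepClosed k] {X : Scheme.{u}}
    (a : X ⟶ Spec (CommRingCat.of k)) [LocallyOfFiniteType a] [QuasiCompact a] (N : ℕ)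
    (hN : (N : k) ≠ 0) (F : EtCoh.Ab X) (hF : EtPBC.IsConstructible F)
    (hFN : EtCoh.KilledBy N F) (q : ℕ) : Finite (EtCoh.H X F q) := by
  have hdim : topologicalKrullDim (Spec (CommRingCat.of k)) ≤ 1 := by
    have h : topologicalKrullDim (Spec (CommRingCat.of k)) = ringKrullDim k :=
      PrimeSpectrum.topologicalKrullDim_eq_ringKrullDim k
    rw [h, ringKrullDim_eq_zero_of_field]
    exact zero_le_one
  have hc := Groth.Agent.S3122.result
    (fun s => (Groth.Agent.Sga4h.DivEq.isRegularLocalRing_stalk_iff k s).2 inferInstance) hdim N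
    (isUnit_natCast_top N hN) a (𝟙 _) a (Category.comp_id a) F hF hFN q
  obtain ⟨e⟩ := Groth.Agent.EtpbcB.GammaRpush.stalk_id_Rpush a F q
  have := Groth.Agent.EtpbcB.GeomPointIndep.finite_stalk_of_constructible
    (𝟙 (Spec (CommRingCat.of k))) _ hc
  exact Finite.of_equiv _ e.toEquiv

theorem finite_const {k : Type u} [Field k] [IsSepClosed k] {X : Scheme.{u}}
    (a : X ⟶ Spec (CommRingCat.of k)) [LocallyOfFiniteType a] [QuasiCompact a] (N : ℕ)
    (hN : (N : k) ≠ 0) (q : ℕ) : Finite (EtCoh.H X (EtCoh.const X (ZMod N)) q) := by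
  have : NeZero N := ⟨by rintro rfl; simp at hN⟩
  exact finite_field a N hN (EtCoh.const X (ZMod N))
    (Etrest.ConstBasic.isConstructible_const X (ZMod N))
    (Etrest.ConstBasic.killedBy_const X (ZMod N) N (fun a => by simp)) q

section HT

variable {X Y : Scheme.{u}} (f : X ⟶ Y) [LocallyOfFiniteType f] [QuasiCompact f] {k : Type u}
  [Field k] [IsSepClosed k] (t : Spec (CommRingCat.of k) ⟶ Y) (N : ℕ) (hN : (N : k) ≠ 0)

include hN

theorem finite_HT (F : EtCoh.Ab X) (hF : EtPBC.IsConstructible F) (hFN : EtCoh.KilledBy N F)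
    (q : ℕ) : Finite (HT f F t q) :=
  finite_field (pullback.snd f t) N hN ((EtCoh.pull (pullback.fst f t)).obj F)
    (Groth.Agent.S0127.result _ F hF) (killedBy_pull _ hFN) q

theorem finite_HT_const (q : ℕ) : Finite (HT f (EtCoh.const X (ZMod N)) t q) := by
  have : NeZero N := ⟨by rintro rfl; simp at hN⟩
  exact finite_HT f t N hN (EtCoh.const X (ZMod N))
    (Etrest.ConstBasic.isConstructible_const X (ZMod N))
    (Etrest.ConstBasic.killedBy_const X (ZMod N) N (fun a => by simp)) q

end HT

section fib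

variable (R : Type u) [CommRing R] {X : Scheme.{u}} (f : X ⟶ Spec (CommRingCat.of R))
  [LocallyOfFiniteType f] [QuasiCompact f] (Ω : Type u) [Field Ω] [IsSepClosed Ω] [Algebra R Ω]
  (N : ℕ) (hN : (N : Ω) ≠ 0)

include hN

/-- The fibre over a separably closed field over `R` (for instance the geometric generic fibre). -/
theorem finite_fib (F : EtCoh.Ab X) (hF : EtPBC.IsConstructible F) (hFN : EtCoh.KilledBy N F)
    (q : ℕ) : Finite (EtCoh.H (VanCyc.fib R f Ω) ((EtCoh.pull (VanCyc.jA R f Ω)).obj F) q) :=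
  finite_field (VanCyc.fibStr R f Ω) N hN _ (Groth.Agent.S0127.result _ F hF)
    (killedBy_pull _ hFN) q

theorem finite_fib_const (q : ℕ) :
    Finite (EtCoh.H (VanCyc.fib R f Ω) (EtCoh.const (VanCyc.fib R f Ω) (ZMod N)) q) :=
  finite_const (VanCyc.fibStr R f Ω) N hN q

theorem finite_fib_const' (q : ℕ) :
    Finite (EtCoh.H (VanCyc.fib R f Ω)
      ((EtCoh.pull (VanCyc.jA R f Ω)).obj (EtCoh.const X (ZMod N))) q) := by
  have : NeZero N := ⟨by rintro rfl; simp at hN⟩
  exact finite_fib R f Ω N hN _ (Etrest.ConstBasic.isConstructible_const X (ZMod N))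
    (Etrest.ConstBasic.killedBy_const X (ZMod N) N (fun a => by simp)) q

end fib

end Groth.Agent.Lefpen.H20.FinFT
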