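import Groth.Agent.S0101
import Groth.Agent.S0127
import Groth.Agent.S0185
import Groth.Agent.S3095
import Groth.Agent.Etrest.ConstBasic
import Groth.Agent.Sga5.EtKilled
import Groth.Agent.Lefpen.H712.HT
import Groth.Prelude.Def_VanCyc

/-!
# Finiteness of the cohomology of proper schemes over strictly henselian local rings

`N > 0`, `F` a constructible sheaf killed by `N`.

* `finite_field`: `X` proper over a separably closed field;
* `finite_local`: `X` proper over a strictly henselian local ring `R`;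
* `finite_HT_field`, `finite_HT_local`: `H^q(X ×_Y Spec R, F)` for `f : X ⟶ Y` proper;
* `finite_fib`, `finite_const`, `finite_fib_const`, `finite_spFib_const`: special cases.
-/

set_option autoImplicit false
universe u
open CategoryTheory CategoryTheory.Limits AlgebraicGeometry Opposite
open scoped Groth.Agent.Etcore.EtInst

namespace Groth.Agent.Lefpen.H20.FinX

open Groth.Agent.Etcore.EtInst Groth.Agent.Etcore.HQ Groth.Agent.Lefpen.H712.HT

theorem isTorsion_of_killedBy {X : Scheme.{u}} {m : ℕ} (hm : 0 < m) {F : EtCoh.Ab X}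
    (h : EtCoh.KilledBy m F) : EtCoh.IsTorsion F := by
  intro U s x
  refine ⟨U, 𝟙 U, ⟨x, rfl⟩, ?_⟩
  rw [isOfFinAddOrder_iff_nsmul_eq_zero]
  exact ⟨m, hm, h U _⟩

theorem killedBy_pull {X Y : Scheme.{u}} (f : X ⟶ Y) {n : ℕ} {F : EtCoh.Ab Y}
    (hF : EtCoh.KilledBy n F) : EtCoh.KilledBy n ((EtCoh.pull f).obj F) := by
  rw [Sga5.EtKilled.killedBy_iff] at hF ⊢
  rw [← CategoryTheory.Functor.map_id, ← Functor.map_nsmul, hF, Functor.map_zero]

/-- Constructible sheaves on proper schemes over separably closed fields. -/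
theorem finite_field {k : Type u} [Field k] [IsSepClosed k] {X : Scheme.{u}}
    (f : X ⟶ Spec (CommRingCat.of k)) [IsProper f] (N : ℕ) (hN : 0 < N) (F : EtCoh.Ab X)
    (hF : EtPBC.IsConstructible F) (hFN : EtCoh.KilledBy N F) (q : ℕ) :
    Finite (EtCoh.H X F q) :=
  Groth.Agent.S0185.result X f N hN F hF hFN q

/-- Constructible sheaves on proper schemes over strictly henselian local rings. -/
theorem finite_local {R : Type u} [CommRing R] (hR : EtCoh.IsStrictlyHenselianLocalRing R)
    {X : Scheme.{u}} (f : X ⟶ Spec (CommRingCat.of R)) [IsProper f] (N : ℕ) (hN : 0 < N)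
    (F : EtCoh.Ab X) (hF : EtPBC.IsConstructible F) (hFN : EtCoh.KilledBy N F) (q : ℕ) :
    Finite (EtCoh.H X F q) := by
  obtain ⟨_, _⟩ := hR
  have := Groth.Agent.S0101.result (pullback.fst f
    (Spec.map (CommRingCat.ofHom (IsLocalRing.residue R))))
  let b : Spec (CommRingCat.of (IsLocalRing.ResidueField R)) ⟶ Spec (CommRingCat.of R) :=
    Spec.map (CommRingCat.ofHom (IsLocalRing.residue R))
  have h0 : Finite (EtCoh.H (pullback f b) ((EtCoh.pull (pullback.fst f b)).obj F) q) :=
    finite_field (pullback.snd f b) N hN _ (Groth.Agent.S0127.result _ F hF)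
      (killedBy_pull _ hFN) q
  exact Finite.of_injective _
    (Groth.Agent.S3095.result R X f F (isTorsion_of_killedBy hN hFN) q).1

section HT

variable {X Y : Scheme.{u}} (f : X ⟶ Y) [IsProper f] (N : ℕ) (hN : 0 < N) (F : EtCoh.Ab X)
  (hF : EtPBC.IsConstructible F) (hFN : EtCoh.KilledBy N F)

include hN hF hFN

theorem finite_HT_field {k : Type u} [Field k] [IsSepClosed k] (t : Spec (CommRingCat.of k) ⟶ Y)
    (q : ℕ) : Finite (HT f F t q) :=
  finite_field (pullback.snd f t) N hN ((EtCoh.pull (pullback.fst f t)).obj F)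
    (Groth.Agent.S0127.result _ F hF) (killedBy_pull _ hFN) q

theorem finite_HT_local {R : Type u} [CommRing R] (hR : EtCoh.IsStrictlyHenselianLocalRing R)
    (t : Spec (CommRingCat.of R) ⟶ Y) (q : ℕ) : Finite (HT f F t q) :=
  finite_local hR (pullback.snd f t) N hN ((EtCoh.pull (pullback.fst f t)).obj F)
    (Groth.Agent.S0127.result _ F hF) (killedBy_pull _ hFN) q

end HT

section const

/-- Constant coefficients. -/
theorem finite_const {R : Type u} [CommRing R] (hR : EtCoh.IsStrictlyHenselianLocalRing R)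
    {X : Scheme.{u}} (f : X ⟶ Spec (CommRingCat.of R)) [IsProper f] (N : ℕ) (hN : 0 < N) (q : ℕ) :
    Finite (EtCoh.H X (EtCoh.const X (ZMod N)) q) := by
  have : NeZero N := ⟨hN.ne'⟩
  exact finite_local hR f N hN (EtCoh.const X (ZMod N))
    (Etrest.ConstBasic.isConstructible_const X (ZMod N))
    (Etrest.ConstBasic.killedBy_const X (ZMod N) N (fun a => by simp)) q

theorem finite_const_field {k : Type u} [Field k] [IsSepClosed k] {X : Scheme.{u}}
    (f : X ⟶ Spec (CommRingCat.of k)) [IsProper f] (N : ℕ) (hN : 0 < N) (q : ℕ) :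
    Finite (EtCoh.H X (EtCoh.const X (ZMod N)) q) := by
  have : NeZero N := ⟨hN.ne'⟩
  exact finite_field f N hN (EtCoh.const X (ZMod N))
    (Etrest.ConstBasic.isConstructible_const X (ZMod N))
    (Etrest.ConstBasic.killedBy_const X (ZMod N) N (fun a => by simp)) q

theorem finite_HT_const_field {X Y : Scheme.{u}} (f : X ⟶ Y) [IsProper f] (N : ℕ) (hN : 0 < N)
    {k : Type u} [Field k] [IsSepClosed k] (t : Spec (CommRingCat.of k) ⟶ Y) (q : ℕ) :
    Finite (HT f (EtCoh.const X (ZMod N)) t q) := by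
  have : NeZero N := ⟨hN.ne'⟩
  exact finite_HT_field f N hN _ (Etrest.ConstBasic.isConstructible_const X (ZMod N))
    (Etrest.ConstBasic.killedBy_const X (ZMod N) N (fun a => by simp)) t q

theorem finite_HT_const_local {X Y : Scheme.{u}} (f : X ⟶ Y) [IsProper f] (N : ℕ) (hN : 0 < N)
    {R : Type u} [CommRing R] (hR : EtCoh.IsStrictlyHenselianLocalRing R)
    (t : Spec (CommRingCat.of R) ⟶ Y) (q : ℕ) :
    Finite (HT f (EtCoh.const X (ZMod N)) t q) := by
  have : NeZero N := ⟨hN.ne'⟩
  exact finite_HT_local f N hN _ (Etrest.ConstBasic.isConstructible_const X (ZMod N))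
    (Etrest.ConstBasic.killedBy_const X (ZMod N) N (fun a => by simp)) hR t q

end const

section fib

variable (R : Type u) [CommRing R] {X : Scheme.{u}} (f : X ⟶ Spec (CommRingCat.of R)) [IsProper f]
  (N : ℕ) (hN : 0 < N)

include hN

/-- The fibre over a separably closed field over `R` (for instance the geometric generic fibre). -/
theorem finite_fib (Ω : Type u) [Field Ω] [IsSepClosed Ω] [Algebra R Ω] (F : EtCoh.Ab X)
    (hF : EtPBC.IsConstructible F) (hFN : EtCoh.KilledBy N F) (q : ℕ) :
    Finite (EtCoh.H (VanCyc.fib R f Ω) ((EtCoh.pull (VanCyc.jA R f Ω)).obj F) q) :=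
  finite_field (VanCyc.fibStr R f Ω) N hN _ (Groth.Agent.S0127.result _ F hF)
    (killedBy_pull _ hFN) q

theorem finite_fib_const (Ω : Type u) [Field Ω] [IsSepClosed Ω] [Algebra R Ω] (q : ℕ) :
    Finite (EtCoh.H (VanCyc.fib R f Ω) (EtCoh.const (VanCyc.fib R f Ω) (ZMod N)) q) :=
  finite_const_field (VanCyc.fibStr R f Ω) N hN q

theorem finite_fib_const' (Ω : Type u) [Field Ω] [IsSepClosed Ω] [Algebra R Ω] (q : ℕ) :
    Finite (EtCoh.H (VanCyc.fib R f Ω)
      ((EtCoh.pull (VanCyc.jA R f Ω)).obj (EtCoh.const X (ZMod N))) q) := by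
  have : NeZero N := ⟨hN.ne'⟩
  exact finite_fib R f N hN Ω _ (Etrest.ConstBasic.isConstructible_const X (ZMod N))
    (Etrest.ConstBasic.killedBy_const X (ZMod N) N (fun a => by simp)) q

theorem finite_spFib_const [IsLocalRing R] [IsSepClosed (IsLocalRing.ResidueField R)] (q : ℕ) :
    Finite (EtCoh.H (VanCyc.spFib R f) (EtCoh.const (VanCyc.spFib R f) (ZMod N)) q) :=
  finite_const_field (VanCyc.spStr R f) N hN q

end fib

end Groth.Agent.Lefpen.H20.FinX
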