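import Groth.Agent.Lefpen.H916.Edge
import Groth.Agent.CurvesA.EtFieldFin

/-!
# Global sections over `Spec K` and Galois invariants

`P` a presheaf of abelian groups on schemes over `Spec K`, `a : P|_et ⟶ G` locally injective and locally
surjective (`LocIso`), `G` a sheaf. If `P(Spec Ω) = colim P(Spec L)` over the finite separable subextensions
of a separable closure `Ω` (`LimSurj`, `LimInj`), then `G(Spec K) ≃+ P(Spec Ω)^Gal`.
-/

set_option autoImplicit false
universe u
open CategoryTheory CategoryTheory.Limits AlgebraicGeometry Opposite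
open Groth.Agent.CurvesA.EtFieldObj Groth.Agent.CurvesA.EtFieldDesc Groth.Agent.CurvesA.EtFieldFin
open Groth.Agent.Lefpen.H916.Edge

namespace Groth.Agent.Lefpen.H20.GalEng

variable {K : Type u} [Field K]

/-- `Spec A` over `Spec K`. -/
noncomputable def sp (K : Type u) [Field K] (A : Type u) [CommRing A] [Algebra K A] :
    Over (Spec (CommRingCat.of K)) := Over.mk (Spec.map (CommRingCat.ofHom (algebraMap K A)))

theorem spm_w {A B : Type u} [CommRing A] [Algebra K A] [CommRing B] [Algebra K B] (φ : A →ₐ[K] B) :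
    Spec.map (CommRingCat.ofHom φ.toRingHom) ≫ Spec.map (CommRingCat.ofHom (algebraMap K A)) =
      Spec.map (CommRingCat.ofHom (algebraMap K B)) := by
  rw [← Spec.map_comp, ← CommRingCat.ofHom_comp]
  congr 2
  exact φ.comp_algebraMap

/-- The morphism attached to a `K`-algebra map. -/
noncomputable def spm {A B : Type u} [CommRing A] [Algebra K A] [CommRing B] [Algebra K B]
    (φ : A →ₐ[K] B) : sp K B ⟶ sp K A :=
  Over.homMk (Spec.map (CommRingCat.ofHom φ.toRingHom)) (spm_w φ)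

theorem spm_left {A B : Type u} [CommRing A] [Algebra K A] [CommRing B] [Algebra K B]
    (φ : A →ₐ[K] B) : (spm φ).left = Spec.map (CommRingCat.ofHom φ.toRingHom) := rfl

theorem spm_comp {A B C : Type u} [CommRing A] [Algebra K A] [CommRing B] [Algebra K B] [CommRing C]
    [Algebra K C] (φ : A →ₐ[K] B) (ψ : B →ₐ[K] C) : spm (ψ.comp φ) = spm ψ ≫ spm φ :=
  Over.OverMorphism.ext
    (Spec.map_comp (CommRingCat.ofHom φ.toRingHom) (CommRingCat.ofHom ψ.toRingHom))

theorem spm_id {A : Type u} [CommRing A] [Algebra K A] : spm (AlgHom.id K A) = 𝟙 (sp K A) :=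
  Over.OverMorphism.ext (Spec.map_id (CommRingCat.of A))

variable (P : (Over (Spec (CommRingCat.of K)))ᵒᵖ ⥤ AddCommGrpCat.{u + 1})

/-- The groups. -/
abbrev M (A : Type u) [CommRing A] [Algebra K A] : Type (u + 1) := P.obj (op (sp K A))

/-- The maps. -/
noncomputable def mp {A B : Type u} [CommRing A] [Algebra K A] [CommRing B] [Algebra K B]
    (φ : A →ₐ[K] B) : M P A →+ M P B := (P.map (spm φ).op).hom

theorem mp_comp {A B C : Type u} [CommRing A] [Algebra K A] [CommRing B] [Algebra K B] [CommRing C]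
    [Algebra K C] (φ : A →ₐ[K] B) (ψ : B →ₐ[K] C) (x : M P A) :
    mp P (ψ.comp φ) x = mp P ψ (mp P φ x) := by
  change P.map (spm (ψ.comp φ)).op x = P.map (spm ψ).op (P.map (spm φ).op x)
  rw [spm_comp, op_comp, P.map_comp]
  rfl

theorem mp_id {A : Type u} [CommRing A] [Algebra K A] (x : M P A) : mp P (AlgHom.id K A) x = x := by
  change P.map (spm (AlgHom.id K A)).op x = x
  rw [spm_id, op_id, P.map_id]
  rfl

/-- The system exhausts `Spec Ω`. -/
def LimSurj (Ω : Type u) [Field Ω] [Algebra K Ω] : Prop :=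
  ∀ z : M P Ω, ∃ (L : Type u) (_ : Field L) (_ : Algebra K L) (_ : FiniteDimensional K L)
    (_ : Algebra.IsSeparable K L) (φ : L →ₐ[K] Ω) (x : M P L), mp P φ x = z

/-- Classes dying over `Spec Ω` die at a finite level. -/
def LimInj (Ω : Type u) [Field Ω] [Algebra K Ω] : Prop :=
  ∀ (L : Type u) [Field L] [Algebra K L] [FiniteDimensional K L] [Algebra.IsSeparable K L]
    (φ : L →ₐ[K] Ω) (x : M P L), mp P φ x = 0 →
    ∃ (L' : Type u) (_ : Field L') (_ : Algebra K L') (_ : FiniteDimensional K L')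
      (_ : Algebra.IsSeparable K L') (φ' : L →ₐ[K] L') (ψ : L' →ₐ[K] Ω),
      ψ.comp φ' = φ ∧ mp P φ' x = 0

section Edge

variable {P} {G : EtCoh.Ab (Spec (CommRingCat.of K))}
  (a : (Scheme.Etale.forget (Spec (CommRingCat.of K))).op ⋙ P ⟶ G.obj)

/-- The edge map over `Spec L`. -/
noncomputable def ed (L : Type u) [Field L] [Algebra K L] [FiniteDimensional K L]
    [Algebra.IsSeparable K L] : M P L →+ G.obj.obj (op (etObj K L)) :=
  (a.app (op (etObj K L))).hom

/-- Restriction of sections of `G`. -/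
noncomputable def gm (G : EtCoh.Ab (Spec (CommRingCat.of K))) {L L' : Type u} [Field L] [Algebra K L] [FiniteDimensional K L]
    [Algebra.IsSeparable K L] [Field L'] [Algebra K L'] [FiniteDimensional K L']
    [Algebra.IsSeparable K L'] (φ : L →ₐ[K] L') :
    G.obj.obj (op (etObj K L)) →+ G.obj.obj (op (etObj K L')) := (G.obj.map (etMap φ).op).hom

theorem gm_injective {L L' : Type u} [Field L] [Algebra K L] [FiniteDimensional K L]
    [Algebra.IsSeparable K L] [Field L'] [Algebra K L'] [FiniteDimensional K L']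
    [Algebra.IsSeparable K L'] (φ : L →ₐ[K] L') : Function.Injective (gm G φ) :=
  have : Nonempty (etObj K L').left := inferInstanceAs (Nonempty (PrimeSpectrum L'))
  map_injective G (etMap φ)

theorem gm_comp {L L' L'' : Type u} [Field L] [Algebra K L] [FiniteDimensional K L]
    [Algebra.IsSeparable K L] [Field L'] [Algebra K L'] [FiniteDimensional K L']
    [Algebra.IsSeparable K L'] [Field L''] [Algebra K L''] [FiniteDimensional K L'']
    [Algebra.IsSeparable K L''] (φ : L →ₐ[K] L') (ψ : L' →ₐ[K] L'') (s : G.obj.obj (op (etObj K L))) :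
    gm G (ψ.comp φ) s = gm G ψ (gm G φ s) := by
  change G.obj.map (etMap (ψ.comp φ)).op s = G.obj.map (etMap ψ).op (G.obj.map (etMap φ).op s)
  rw [etMap_comp, op_comp, G.obj.map_comp]
  rfl

theorem forget_etMap {L L' : Type u} [Field L] [Algebra K L] [FiniteDimensional K L]
    [Algebra.IsSeparable K L] [Field L'] [Algebra K L'] [FiniteDimensional K L']
    [Algebra.IsSeparable K L'] (φ : L →ₐ[K] L') :
    (Scheme.Etale.forget (Spec (CommRingCat.of K))).map (etMap φ) = spm φ := rfl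

theorem ed_nat {L L' : Type u} [Field L] [Algebra K L] [FiniteDimensional K L]
    [Algebra.IsSeparable K L] [Field L'] [Algebra K L'] [FiniteDimensional K L']
    [Algebra.IsSeparable K L'] (φ : L →ₐ[K] L') (x : M P L) :
    ed a L' (mp P φ x) = gm G φ (ed a L x) :=
  ConcreteCategory.congr_hom (a.naturality (etMap φ).op) x

theorem hit {L : Type u} [Field L] [Algebra K L] [FiniteDimensional K L]
    [Algebra.IsSeparable K L] {V : (Spec (CommRingCat.of K)).Etale} (k : V ⟶ etObj K L) (v : V.left) :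
    ∃ (L' : Type u) (_ : Field L') (_ : Algebra K L') (_ : FiniteDimensional K L')
      (_ : Algebra.IsSeparable K L') (φ : L →ₐ[K] L') (b : etObj K L' ⟶ V), b ≫ k = etMap φ := by
  obtain ⟨L', i1, i2, i3, i4, g, hg, -⟩ := exists_field_hit V v
  obtain ⟨φ, hφ⟩ := exists_etMap_eq (homMk g hg ≫ k)
  exact ⟨L', i1, i2, i3, i4, φ, homMk g hg, hφ.symm⟩

theorem ed_inj (ha : LocIso a) {L : Type u} [Field L] [Algebra K L] [FiniteDimensional K L]
    [Algebra.IsSeparable K L] (x : M P L) (hx : ed a L x = 0) :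
    ∃ (L' : Type u) (_ : Field L') (_ : Algebra K L') (_ : FiniteDimensional K L')
      (_ : Algebra.IsSeparable K L') (φ : L →ₐ[K] L'), mp P φ x = 0 := by
  obtain ⟨v⟩ : Nonempty (etObj K L).left := inferInstanceAs (Nonempty (PrimeSpectrum L))
  obtain ⟨V', k, v', -, h0⟩ := ha.inj (etObj K L) x hx v
  obtain ⟨L', i1, i2, i3, i4, φ, b, hb⟩ := hit k v'
  refine ⟨L', i1, i2, i3, i4, φ, ?_⟩
  change ((Scheme.Etale.forget (Spec (CommRingCat.of K))).op ⋙ P).map (etMap φ).op x = 0
  rw [← hb, op_comp, Functor.map_comp]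
  change ((Scheme.Etale.forget (Spec (CommRingCat.of K))).op ⋙ P).map b.op
    (((Scheme.Etale.forget (Spec (CommRingCat.of K))).op ⋙ P).map k.op x) = 0
  rw [h0, map_zero]

theorem ed_surj (ha : LocIso a) {L : Type u} [Field L] [Algebra K L] [FiniteDimensional K L]
    [Algebra.IsSeparable K L] (s : G.obj.obj (op (etObj K L))) :
    ∃ (L' : Type u) (_ : Field L') (_ : Algebra K L') (_ : FiniteDimensional K L')
      (_ : Algebra.IsSeparable K L') (φ : L →ₐ[K] L') (x : M P L'), ed a L' x = gm G φ s := by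
  obtain ⟨v⟩ : Nonempty (etObj K L).left := inferInstanceAs (Nonempty (PrimeSpectrum L))
  obtain ⟨V', k, v', -, x, hx⟩ := ha.surj (etObj K L) s v
  obtain ⟨L', i1, i2, i3, i4, φ, b, hb⟩ := hit k v'
  refine ⟨L', i1, i2, i3, i4, φ, P.map ((Scheme.Etale.forget (Spec (CommRingCat.of K))).map b).op x, ?_⟩
  have h1 := ConcreteCategory.congr_hom (a.naturality b.op) x
  refine Eq.trans h1 ?_
  change G.obj.map b.op (a.app (op V') x) = G.obj.map (etMap φ).op s
  rw [hx, ← hb, op_comp, G.obj.map_comp]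
  rfl

end Edge

section Ext

variable {Ω : Type u} [Field Ω] [Algebra K Ω] [IsSepClosed Ω]

/-- Extension of embeddings. -/
theorem exists_ext {L L' : Type u} [Field L] [Algebra K L] [Field L'] [Algebra K L']
    [Algebra.IsSeparable K L'] (φ : L →ₐ[K] Ω) (φ' : L →ₐ[K] L') :
    ∃ ψ : L' →ₐ[K] Ω, ψ.comp φ' = φ := by
  let _ : Algebra L L' := φ'.toRingHom.toAlgebra
  let _ : Algebra L Ω := φ.toRingHom.toAlgebra
  have t1 : IsScalarTower K L L' := IsScalarTower.of_algebraMap_eq fun r => (φ'.commutes r).symm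
  have t2 : IsScalarTower K L Ω := IsScalarTower.of_algebraMap_eq fun r => (φ.commutes r).symm
  have : Algebra.IsSeparable L L' := Algebra.isSeparable_tower_top_of_isSeparable K L L'
  let ψ : L' →ₐ[L] Ω := IsSepClosed.lift
  refine ⟨ψ.restrictScalars K, ?_⟩
  ext x
  exact ψ.commutes x

omit [IsSepClosed Ω] in
/-- Two finite levels inside `Ω` have a common one. -/
theorem exists_common {L L' : Type u} [Field L] [Algebra K L] [FiniteDimensional K L]
    [Algebra.IsSeparable K L] [Field L'] [Algebra K L'] [FiniteDimensional K L']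
    [Algebra.IsSeparable K L'] [Algebra.IsSeparable K Ω] (φ : L →ₐ[K] Ω) (φ' : L' →ₐ[K] Ω) :
    ∃ (N : IntermediateField K Ω) (_ : FiniteDimensional K N) (α : L →ₐ[K] N) (β : L' →ₐ[K] N),
      N.val.comp α = φ ∧ N.val.comp β = φ' := by
  let N : IntermediateField K Ω := φ.fieldRange ⊔ φ'.fieldRange
  let e1 : L ≃ₐ[K] φ.fieldRange := AlgEquiv.ofInjectiveField φ
  let e2 : L' ≃ₐ[K] φ'.fieldRange := AlgEquiv.ofInjectiveField φ'
  have : FiniteDimensional K φ.fieldRange := e1.toLinearEquiv.finiteDimensional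
  have : FiniteDimensional K φ'.fieldRange := e2.toLinearEquiv.finiteDimensional
  refine ⟨N, IntermediateField.finiteDimensional_sup _ _,
    (IntermediateField.inclusion le_sup_left).comp e1.toAlgHom,
    (IntermediateField.inclusion le_sup_right).comp e2.toAlgHom, ?_, ?_⟩
  · ext x; rfl
  · ext x; rfl

end Ext

section Rel

variable {P} {G : EtCoh.Ab (Spec (CommRingCat.of K))}
  (a : (Scheme.Etale.forget (Spec (CommRingCat.of K))).op ⋙ P ⟶ G.obj)
  {Ω : Type u} [Field Ω] [Algebra K Ω]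

/-- `s` and `z` are represented by a common class at a finite level. -/
def Rel (s : G.obj.obj (op (etObj K K))) (z : M P Ω) : Prop :=
  ∃ (L : Type u) (_ : Field L) (_ : Algebra K L) (_ : FiniteDimensional K L)
    (_ : Algebra.IsSeparable K L) (φ : L →ₐ[K] Ω) (x : M P L),
    ed a L x = gm G (Algebra.ofId K L) s ∧ mp P φ x = z

variable {a}

theorem Rel.add [Algebra.IsSeparable K Ω] {s s' : G.obj.obj (op (etObj K K))} {z z' : M P Ω}
    (h : Rel a s z) (h' : Rel a s' z') : Rel a (s + s') (z + z') := by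
  obtain ⟨L, i1, i2, i3, i4, φ, x, hx, rfl⟩ := h
  obtain ⟨L', j1, j2, j3, j4, φ', x', hx', rfl⟩ := h'
  obtain ⟨N, n1, α, β, hα, hβ⟩ := exists_common φ φ'
  refine ⟨N, inferInstance, inferInstance, n1, inferInstance, N.val, mp P α x + mp P β x', ?_, ?_⟩
  · rw [map_add, map_add, ed_nat, ed_nat, hx, hx', ← gm_comp, ← gm_comp]
    congr 3 <;> exact Subsingleton.elim _ _
  · rw [map_add, ← mp_comp, ← mp_comp, hα, hβ]

theorem Rel.neg {s : G.obj.obj (op (etObj K K))} {z : M P Ω} (h : Rel a s z) : Rel a (-s) (-z) := by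
  obtain ⟨L, i1, i2, i3, i4, φ, x, hx, rfl⟩ := h
  exact ⟨L, i1, i2, i3, i4, φ, -x, by rw [map_neg, map_neg, hx], by rw [map_neg]⟩

theorem rel_zero_left (ha : LocIso a) [IsSepClosed Ω] {z : M P Ω} (h : Rel a 0 z) : z = 0 := by
  obtain ⟨L, i1, i2, i3, i4, φ, x, hx, rfl⟩ := h
  rw [map_zero] at hx
  obtain ⟨L', j1, j2, j3, j4, φ', h0⟩ := ed_inj a ha x hx
  obtain ⟨ψ, hψ⟩ := exists_ext (Ω := Ω) φ φ'
  rw [← hψ, mp_comp, h0, map_zero]

theorem Rel.unique (ha : LocIso a) [IsSepClosed Ω] [Algebra.IsSeparable K Ω]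
    {s : G.obj.obj (op (etObj K K))} {z z' : M P Ω} (h : Rel a s z) (h' : Rel a s z') : z = z' := by
  have h1 := h.add h'.neg
  rw [add_neg_cancel] at h1
  exact eq_of_sub_eq_zero ((sub_eq_add_neg z z').trans (rel_zero_left ha h1))

theorem rel_zero_right (hinj : LimInj P Ω) {s : G.obj.obj (op (etObj K K))}
    (h : Rel a s (0 : M P Ω)) : s = 0 := by
  obtain ⟨L, i1, i2, i3, i4, φ, x, hx, h0⟩ := h
  obtain ⟨L', j1, j2, j3, j4, φ', ψ, -, h1⟩ := hinj L φ x h0
  apply gm_injective (G := G) (φ'.comp (Algebra.ofId K L))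
  rw [map_zero, gm_comp, ← hx, ← ed_nat, h1, map_zero]

theorem exists_rel (ha : LocIso a) (Ω : Type u) [Field Ω] [Algebra K Ω] [IsSepClosed Ω]
    (s : G.obj.obj (op (etObj K K))) : ∃ z : M P Ω, Rel a s z := by
  obtain ⟨L', i1, i2, i3, i4, φ, x, hx⟩ := ed_surj a ha s
  let ψ : L' →ₐ[K] Ω := IsSepClosed.lift
  refine ⟨mp P ψ x, L', i1, i2, i3, i4, ψ, x, ?_, rfl⟩
  rw [hx]
  congr 2
  exact Subsingleton.elim _ _

theorem Rel.aut {s : G.obj.obj (op (etObj K K))} {z : M P Ω} (h : Rel a s z) (σ : Ω →ₐ[K] Ω) :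
    Rel a s (mp P σ z) := by
  obtain ⟨L, i1, i2, i3, i4, φ, x, hx, rfl⟩ := h
  exact ⟨L, i1, i2, i3, i4, σ.comp φ, x, hx, mp_comp P φ σ x⟩

theorem exists_rel_of_fixed [IsSepClosure K Ω] (hsurj : LimSurj P Ω) (hinj : LimInj P Ω)
    {z : M P Ω} (hz : ∀ σ : Ω ≃ₐ[K] Ω, mp P σ.toAlgHom z = z) : ∃ s, Rel a s z := by
  have : IsGalois K Ω := IsSepClosure.isGalois
  obtain ⟨L, i1, i2, i3, i4, φ, x₀, hx₀⟩ := hsurj z
  -- a finite Galois level
  let N : IntermediateField K Ω := IntermediateField.normalClosure K φ.fieldRange Ω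
  let e1 : L ≃ₐ[K] φ.fieldRange := AlgEquiv.ofInjectiveField φ
  have : FiniteDimensional K φ.fieldRange := e1.toLinearEquiv.finiteDimensional
  have n1 : FiniteDimensional K N := inferInstance
  have n2 : IsGalois K N := inferInstance
  let α : L →ₐ[K] N :=
    (IntermediateField.inclusion (IntermediateField.le_normalClosure φ.fieldRange)).comp e1.toAlgHom
  have hα : N.val.comp α = φ := by ext y; rfl
  let x : M P N := mp P α x₀
  have hx : mp P N.val x = z := by
    rw [← hx₀, ← hα, mp_comp]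
  obtain ⟨t, ht⟩ := exists_descent (K := K) (L := K) (M := N) G (ed a N x) (by
    intro g
    obtain ⟨σ, hσ⟩ : ∃ σ : Ω ≃ₐ[K] Ω, σ.toAlgHom.comp N.val = N.val.comp g.toAlgHom :=
      ⟨g.liftNormal Ω, by ext y; exact g.liftNormal_commutes Ω y⟩
    have h1 : mp P N.val (mp P g.toAlgHom x - x) = 0 := by
      rw [map_sub, ← mp_comp, ← hσ, mp_comp, hx, hz σ, sub_self]
    obtain ⟨L', j1, j2, j3, j4, φ', ψ, -, h2⟩ := hinj N N.val _ h1
    have h3 : gm G φ' (gm G g.toAlgHom (ed a N x)) = gm G φ' (ed a N x) := by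
      rw [← ed_nat, ← ed_nat, ← ed_nat, ← sub_eq_zero, ← map_sub, ← map_sub, h2, map_zero]
    exact gm_injective φ' h3)
  refine ⟨t, N, inferInstance, inferInstance, n1, inferInstance, N.val, x, ?_, hx⟩
  exact ht.symm

/-- **Global sections and Galois invariants.** -/
theorem nonempty_equiv (ha : LocIso a) [IsSepClosure K Ω] (hsurj : LimSurj P Ω) (hinj : LimInj P Ω)
    (S : AddSubgroup (M P Ω)) (hS : ∀ z, z ∈ S ↔ ∀ σ : Ω ≃ₐ[K] Ω, mp P σ.toAlgHom z = z) :
    Nonempty (G.obj.obj (op (etObj K K)) ≃+ S) := by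
  have : IsSepClosed Ω := IsSepClosure.sep_closed K
  have : Algebra.IsSeparable K Ω := IsSepClosure.separable
  choose Φ hΦ using exists_rel ha Ω
  have hmem : ∀ s, Φ s ∈ S := fun s => (hS _).2 fun σ => ((hΦ s).aut σ.toAlgHom).unique ha (hΦ s)
  have hadd : ∀ s t, Φ (s + t) = Φ s + Φ t := fun s t => (hΦ (s + t)).unique ha ((hΦ s).add (hΦ t))
  let ψ : G.obj.obj (op (etObj K K)) →+ S := AddMonoidHom.mk' (fun s => ⟨Φ s, hmem s⟩)
    fun s t => Subtype.ext (hadd s t)
  refine ⟨AddEquiv.ofBijective ψ ⟨?_, ?_⟩⟩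
  · rw [injective_iff_map_eq_zero]
    intro s hs
    have h1 : Φ s = 0 := congrArg Subtype.val hs
    have h2 := hΦ s
    rw [h1] at h2
    exact rel_zero_right hinj h2
  · rintro ⟨z, hz⟩
    obtain ⟨s, hs⟩ := exists_rel_of_fixed (a := a) hsurj hinj ((hS z).1 hz)
    exact ⟨s, Subtype.ext ((hΦ s).unique ha hs)⟩

end Rel

end Groth.Agent.Lefpen.H20.GalEng
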